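import Mathlib.CategoryTheory.Triangulated.Generators

/-!
A classical generator is strong as soon as some strong generator exists.
-/

set_option autoImplicit false
universe v u

namespace StrongGenLib

open ZeroObject CategoryTheory CategoryTheory.Limits CategoryTheory.Pretriangulated CategoryTheory.ObjectProperty

variable {C : Type u} [Category.{v} C] [HasZeroObject C] [HasShift C ℤ] [Preadditive C]
  [∀ (n : ℤ), (shiftFunctor C n).Additive] [Pretriangulated C]

instance (P : ObjectProperty C) [P.IsClosedUnderBinaryProducts] :
    P.retractClosure.IsClosedUnderBinaryProducts where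
  limitsOfShape_le := by
    rintro X ⟨p⟩
    obtain ⟨A, hA, ⟨rA⟩⟩ := (prop_retractClosure_iff _ _).mp (p.prop_diag_obj ⟨WalkingPair.left⟩)
    obtain ⟨B, hB, ⟨rB⟩⟩ := (prop_retractClosure_iff _ _).mp (p.prop_diag_obj ⟨WalkingPair.right⟩)
    refine (prop_retractClosure_iff _ _).mpr ⟨A ⨯ B, P.prop_prod A B hA hB, ⟨?_⟩⟩
    refine
      { i := prod.lift (p.π.app ⟨WalkingPair.left⟩ ≫ rA.i) (p.π.app ⟨WalkingPair.right⟩ ≫ rB.i)
        r := p.isLimit.lift
          { pt := A ⨯ B
            π := Discrete.natTrans fun j => match j with
              | ⟨WalkingPair.left⟩ => prod.fst ≫ rA.r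
              | ⟨WalkingPair.right⟩ => prod.snd ≫ rB.r }
        retract := p.isLimit.hom_ext fun j => ?_ }
    rcases j with ⟨_ | _⟩
    · rw [Category.assoc, p.isLimit.fac, Category.id_comp]; simp
      rw [prod.lift_fst_assoc, Category.assoc, rA.retract, Category.comp_id]
    · rw [Category.assoc, p.isLimit.fac, Category.id_comp]; simp
      rw [prod.lift_snd_assoc, Category.assoc, rB.retract, Category.comp_id]

instance (P Q : ObjectProperty C) [P.IsClosedUnderBinaryProducts]
    [Q.IsClosedUnderBinaryProducts] :
    (extensionProduct P Q).IsClosedUnderBinaryProducts where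
  limitsOfShape_le := by
    rintro X ⟨p⟩
    choose Y Z f g h hT hY hZ using fun j : WalkingPair => p.prop_diag_obj ⟨j⟩
    let T : WalkingPair → Triangle C := fun j => Triangle.mk (f j) (g j) (h j)
    have hd := productTriangle_distinguished T hT
    let e : p.diag ≅ Discrete.functor (fun j => (T j).obj₂) := Discrete.natIso fun j => Iso.refl _
    refine ObjectProperty.prop_of_iso _ (IsLimit.conePointsIsoOfNatIso p.isLimit (limit.isLimit _) e).symm ?_
    exact ⟨_, _, _, _, _, hd,
      P.prop_of_isLimit (limit.isLimit _) (fun j => hY j.as),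
      Q.prop_of_isLimit (limit.isLimit _) (fun j => hZ j.as)⟩

instance extensionProductIter_closed (P : ObjectProperty C) [P.IsClosedUnderBinaryProducts] (n : ℕ) :
    (P.extensionProductIter n).IsClosedUnderBinaryProducts := by
  induction n with
  | zero => rw [extensionProductIter_zero]; infer_instance
  | succ n ih => rw [extensionProductIter_succ]; infer_instance

theorem main [IsTriangulated C] (G E : C)
    (hG : ObjectProperty.IsStrongTriangulatedGenerator (fun X : C => X = G))
    (hE : ObjectProperty.IsClassicalTriangulatedGenerator (fun X : C => X = E)) :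
    ObjectProperty.IsStrongTriangulatedGenerator (fun X : C => X = E) := by
  let PE : ObjectProperty C := fun X => X = E
  let PG : ObjectProperty C := fun X => X = G
  haveI : PE.Nonempty := nonempty_of_prop (X := E) rfl
  obtain ⟨k, hk⟩ := hG
  obtain ⟨n, hn⟩ := (prop_triangEnvelope_iff PE G).mp (by rw [hE]; trivial)
  have hbase : (PG.shiftClosure ℤ).binaryProductsClosure.retractClosure ≤ PE.triangEnvelopeIter n := by
    haveI : (PE.triangEnvelopeIter n).ContainsZero :=
      ⟨0, isZero_zero C, IsStableUnderRetracts.of_retract
        ({ i := 0, r := 0, retract := (isZero_zero C).eq_of_src _ _ } : Retract (0 : C) E)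
        (PE.le_triangEnvelopeIter n E rfl)⟩
    rw [retractClosure_le_iff, binaryProductsClosure_le_iff, shiftClosure_le_iff]
    intro X hX
    have hXG : X = G := hX
    rw [hXG]
    exact hn
  suffices h : ∀ j, ∃ N, (PG.shiftClosure ℤ).binaryProductsClosure.retractClosure.extensionProductIter j ≤
      PE.triangEnvelopeIter N by
    obtain ⟨N, hN⟩ := h k
    refine ⟨N, eq_top_iff.mpr ?_⟩
    rw [← hk]
    exact retractClosure_le_iff _ _ |>.mpr hN
  intro j
  induction j with
  | zero => exact ⟨n, by rwa [extensionProductIter_zero]⟩
  | succ j ih =>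
    obtain ⟨N, hN⟩ := ih
    refine ⟨n + (N + 1), ?_⟩
    rw [extensionProductIter_succ, PE.triangEnvelopeIter_add' (n := n) (m := N + 1) (m' := N) rfl]
    exact ((monotone_extensionProduct_left _ hbase).trans
      (monotone_extensionProduct_right _ hN)).trans (le_retractClosure _)

end StrongGenLib
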